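import Mathlib

/-!
# S4311, box D2: overgroups of index three of a `2`-group `P` in `P L₁L₂L₃L₄` (abstract part) (helper286)
-/

set_option autoImplicit false
set_option linter.unusedSectionVars false

namespace Cfsg.Agent.H286.RV

open Subgroup

universe u

variable {S : Type u} [Group S]

section tools

theorem mem_map_conj {H : Subgroup S} {g x : S} : x ∈ H.map (MulAut.conj g).toMonoidHom ↔ g⁻¹ * x * g ∈ H := by
  constructor
  · rintro ⟨y, hy, rfl⟩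
    have h1 : g⁻¹ * (MulAut.conj g).toMonoidHom y * g = y := by
      change g⁻¹ * (g * y * g⁻¹) * g = y
      group
    rw [h1]
    exact hy
  · intro h
    refine ⟨_, h, ?_⟩
    change g * (g⁻¹ * x * g) * g⁻¹ = x
    group

theorem conj_mem_map {H : Subgroup S} {g x : S} (hx : x ∈ H) : g * x * g⁻¹ ∈ H.map (MulAut.conj g).toMonoidHom :=
  ⟨x, hx, rfl⟩

theorem mem_sup_norm {H K : Subgroup S} (h : ∀ k ∈ K, ∀ x ∈ H, k * x * k⁻¹ ∈ H) {x : S} (hx : x ∈ H ⊔ K) :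
    ∃ a ∈ H, ∃ b ∈ K, a * b = x := by
  let R : Subgroup S :=
    { carrier := {y | ∃ a ∈ H, ∃ b ∈ K, a * b = y}
      one_mem' := ⟨1, one_mem _, 1, one_mem _, mul_one 1⟩
      mul_mem' := by
        rintro _ _ ⟨a, ha, b, hb, rfl⟩ ⟨a', ha', b', hb', rfl⟩
        refine ⟨a * (b * a' * b⁻¹), mul_mem ha (h b hb a' ha'), b * b', mul_mem hb hb', ?_⟩
        group
      inv_mem' := by
        rintro _ ⟨a, ha, b, hb, rfl⟩
        refine ⟨b⁻¹ * a⁻¹ * b, ?_, b⁻¹, inv_mem hb, ?_⟩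
        · have := h b⁻¹ (inv_mem hb) a⁻¹ (inv_mem ha)
          rwa [inv_inv] at this
        · group }
  have h1 : H ≤ R := fun a ha => ⟨a, ha, 1, one_mem _, mul_one a⟩
  have h2 : K ≤ R := fun b hb => ⟨1, one_mem _, b, hb, one_mul b⟩
  exact (sup_le h1 h2) hx

theorem mem_of_cube {H : Subgroup S} {x : S} {k : ℕ} (h3 : x ^ 3 ∈ H) (h2 : x ^ 2 ^ k = 1) : x ∈ H := by
  have h4 : orderOf x ∣ 2 ^ k := orderOf_dvd_of_pow_eq_one h2
  have h5 : Nat.Coprime 3 (orderOf x) := Nat.Coprime.coprime_dvd_right h4 (Nat.Coprime.pow_right _ (by norm_num))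
  obtain ⟨m, hm⟩ := exists_pow_eq_self_of_coprime h5
  rw [← hm]
  exact pow_mem h3 m

theorem pow_three_mem {B T : Subgroup S} (hn : ∀ t ∈ T, ∀ b ∈ B, t * b * t⁻¹ ∈ B) (hi : B.relIndex T ∣ 3) {x : S}
    (hx : x ∈ T) : x ^ 3 ∈ B := by
  have hN : (B.subgroupOf T).Normal := ⟨fun b hb t => by
    rw [mem_subgroupOf] at hb ⊢
    exact hn _ t.2 _ hb⟩
  have h1 : (⟨x, hx⟩ : T) ^ (B.subgroupOf T).index ∈ B.subgroupOf T := pow_index_mem _ _
  obtain ⟨c, hc⟩ := hi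
  have h2 : (⟨x, hx⟩ : T) ^ 3 ∈ B.subgroupOf T := by
    rw [hc, pow_mul]
    exact pow_mem h1 c
  exact mem_subgroupOf.1 h2

theorem exists_kappa {B T : Subgroup S} (hn : ∀ t ∈ T, ∀ b ∈ B, t * b * t⁻¹ ∈ B) (hi : B.relIndex T ∣ 3) :
    ∃ κ : S → ZMod 3, (∀ x ∈ T, ∀ y ∈ T, κ (x * y) = κ x + κ y) ∧ ∀ x ∈ T, κ x = 0 ↔ x ∈ B := by
  rcases (Nat.dvd_prime Nat.prime_three).1 hi with h1 | h3
  · exact ⟨fun _ => 0, fun _ _ _ _ => (add_zero 0).symm, fun x hx => ⟨fun _ => (relIndex_eq_one.1 h1) hx, fun _ => rfl⟩⟩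
  · have hN : (B.subgroupOf T).Normal := ⟨fun b hb t => by
      rw [mem_subgroupOf] at hb ⊢
      exact hn _ t.2 _ hb⟩
    have hcard : Nat.card (T ⧸ B.subgroupOf T) = 3 := h3
    have hp : Fact (Nat.Prime 3) := ⟨Nat.prime_three⟩
    have e : (T ⧸ B.subgroupOf T) ≃* Multiplicative (ZMod 3) := mulEquivOfPrimeCardEq (p := 3) hcard (by
      rw [Nat.card_eq_fintype_card, Fintype.card_multiplicative, ZMod.card])
    classical
    refine ⟨fun x => if hx : x ∈ T then (e (QuotientGroup.mk (⟨x, hx⟩ : T))).toAdd else 0, ?_, ?_⟩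
    · intro x hx y hy
      dsimp only
      rw [dif_pos (mul_mem hx hy), dif_pos hx, dif_pos hy, ← toAdd_mul, ← map_mul]
      rfl
    · intro x hx
      dsimp only
      rw [dif_pos hx]
      constructor
      · intro h
        have h4 : e (QuotientGroup.mk (⟨x, hx⟩ : T)) = 1 := h
        rw [map_eq_one_iff e e.injective, QuotientGroup.eq_one_iff, mem_subgroupOf] at h4
        exact h4
      · intro h
        have h4 : (QuotientGroup.mk (⟨x, hx⟩ : T) : T ⧸ B.subgroupOf T) = 1 :=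
          (QuotientGroup.eq_one_iff _).2 (mem_subgroupOf.2 h)
        rw [h4, map_one]
        rfl

/-- a group with a subgroup of index at most four is generated by this subgroup and two elements -/
theorem exists_two [Finite S] {P₁ P : Subgroup S} (hle : P₁ ≤ P) (hi : P₁.relIndex P ≤ 4) :
    ∃ a ∈ P, ∃ b ∈ P, ∀ K : Subgroup S, P₁ ≤ K → a ∈ K → b ∈ K → K ≤ P → P ≤ K := by
  have hpos : ∀ A B : Subgroup S, 0 < A.relIndex B := fun A B =>
    Nat.pos_of_ne_zero (index_ne_zero_of_finite (H := A.subgroupOf B))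
  have hne : ∀ (A B : Subgroup S) (x : S), x ∈ B → x ∉ A → 2 ≤ A.relIndex B := by
    intro A B x hx hxA
    have h1 := hpos A B
    have h2 : A.relIndex B ≠ 1 := fun h => hxA ((relIndex_eq_one.1 h) hx)
    omega
  by_cases h0 : P ≤ P₁
  · exact ⟨1, one_mem _, 1, one_mem _, fun K hK _ _ _ => h0.trans hK⟩
  obtain ⟨a, haP, ha⟩ := SetLike.not_le_iff_exists.1 h0
  set A := P₁ ⊔ zpowers a with hA
  have hAP : A ≤ P := sup_le hle (zpowers_le.2 haP)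
  have haA : a ∈ A := (le_sup_right : zpowers a ≤ A) (mem_zpowers a)
  have h1 := relIndex_mul_relIndex P₁ A P le_sup_left hAP
  have h2 := hne P₁ A a haA ha
  have h3 : A.relIndex P ≤ 2 := by
    by_contra hcon
    have : 2 * 3 ≤ P₁.relIndex A * A.relIndex P := Nat.mul_le_mul h2 (by omega)
    omega
  by_cases h4 : P ≤ A
  · exact ⟨a, haP, 1, one_mem _, fun K hK haK _ _ => h4.trans (sup_le hK (zpowers_le.2 haK))⟩
  obtain ⟨b, hbP, hb⟩ := SetLike.not_le_iff_exists.1 h4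
  set C := A ⊔ zpowers b with hC
  have hCP : C ≤ P := sup_le hAP (zpowers_le.2 hbP)
  have hbC : b ∈ C := (le_sup_right : zpowers b ≤ C) (mem_zpowers b)
  have h5 := relIndex_mul_relIndex A C P le_sup_left hCP
  have h6 := hne A C b hbC hb
  have h7 : C.relIndex P = 1 := by
    have h8 := hpos C P
    by_contra hcon
    have : 2 * 2 ≤ A.relIndex C * C.relIndex P := Nat.mul_le_mul h6 (by omega)
    omega
  refine ⟨a, haP, b, hbP, fun K hK haK hbK _ => (relIndex_eq_one.1 h7).trans ?_⟩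
  exact sup_le (sup_le hK (zpowers_le.2 haK)) (zpowers_le.2 hbK)

end tools

/-- the hypotheses -/
structure HH (P : Subgroup S) (L : Fin 4 → Subgroup S) : Prop where
  comm : ∀ i j, i ≠ j → ∀ x ∈ L i, ∀ y ∈ L j, x * y = y * x
  inj : Function.Injective L
  perm : ∀ g ∈ P, ∀ i, ∃ j, (L i).map (MulAut.conj g).toMonoidHom = L j
  trans : ∀ i, ∃ g ∈ P, (L 0).map (MulAut.conj g).toMonoidHom = L i
  three : ∀ i, (P ⊓ L i).relIndex (normalizer ((P ⊓ L i : Subgroup S) : Set S) ⊓ L i) ∣ 3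
  disj : ∀ i, ∀ x ∈ L i, x ∈ ⨆ j : {j // j ≠ i}, L j.1 → ∃ k, x ^ 2 ^ k = 1
  inter : ∀ x ∈ P, x ∈ ⨆ i, L i → x ∈ ⨆ i, P ⊓ L i

/-- the other factors -/
def Lo (L : Fin 4 → Subgroup S) (i : Fin 4) : Subgroup S := ⨆ j : {j // j ≠ i}, L j.1

/-- `Q_i L'_i` -/
def BB (P : Subgroup S) (L : Fin 4 → Subgroup S) (i : Fin 4) : Subgroup S := (P ⊓ L i) ⊔ Lo L i

/-- the overgroups -/
def MM (P : Subgroup S) (L : Fin 4 → Subgroup S) : Set (Subgroup S) :=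
  {M | P ≤ M ∧ P.relIndex M = 3 ∧ M ≤ P ⊔ ⨆ i, L i}

namespace HH

variable {P : Subgroup S} {L : Fin 4 → Subgroup S} (h : HH P L)

include h

theorem le_Lo {i j : Fin 4} (hij : j ≠ i) : L j ≤ Lo L i := le_iSup (fun j : {j // j ≠ i} => L j.1) ⟨j, hij⟩

theorem Lo_le {i : Fin 4} : Lo L i ≤ ⨆ j, L j := iSup_le fun j => le_iSup L j.1

theorem comm' {i : Fin 4} {x y : S} (hx : x ∈ L i) (hy : y ∈ Lo L i) : x * y = y * x := by
  have h1 : Lo L i ≤ centralizer ({x} : Set S) := iSup_le fun j y hy => by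
    rw [mem_centralizer_singleton_iff]
    exact (h.comm i j.1 (Ne.symm j.2) x hx y hy).symm
  exact (mem_centralizer_singleton_iff.1 (h1 hy)).symm

theorem sup_Lo (i : Fin 4) : ⨆ j, L j = L i ⊔ Lo L i := by
  apply le_antisymm
  · refine iSup_le fun j => ?_
    by_cases hj : j = i
    · rw [hj]; exact le_sup_left
    · exact (h.le_Lo hj).trans le_sup_right
  · exact sup_le (le_iSup L i) h.Lo_le

theorem split {i : Fin 4} {x : S} (hx : x ∈ ⨆ j, L j) : ∃ a ∈ L i, ∃ b ∈ Lo L i, a * b = x := by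
  rw [h.sup_Lo i] at hx
  refine mem_sup_norm (fun k hk x hx => ?_) hx
  rw [← h.comm' hx hk, mul_inv_cancel_right]
  exact hx

theorem split_B {i : Fin 4} {x : S} (hx : x ∈ BB P L i) : ∃ a ∈ P ⊓ L i, ∃ b ∈ Lo L i, a * b = x := by
  refine mem_sup_norm (fun k hk x hx => ?_) hx
  rw [← h.comm' hx.2 hk, mul_inv_cancel_right]
  exact hx

theorem norm_L {i : Fin 4} {x y : S} (hx : x ∈ ⨆ j, L j) (hy : y ∈ L i) : x * y * x⁻¹ ∈ L i := by
  obtain ⟨a, ha, b, hb, rfl⟩ := h.split (i := i) hx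
  have h1 : a * b * y * (a * b)⁻¹ = a * y * a⁻¹ := by
    rw [mul_assoc a b y, ← h.comm' hy hb]
    group
  rw [h1]
  exact mul_mem (mul_mem ha hy) (inv_mem ha)

/-- Lemma A -/
theorem lemA {i : Fin 4} {u : S} (hu : u ∈ L i) (hu' : u ∈ Lo L i) : u ∈ P := by
  obtain ⟨k, hk⟩ := h.disj i u hu hu'
  have hN : u ∈ normalizer ((P ⊓ L i : Subgroup S) : Set S) ⊓ L i := by
    refine mem_inf.2 ⟨?_, hu⟩
    rw [mem_normalizer_iff]
    intro x
    have h1 : ∀ x ∈ L i, u * x * u⁻¹ = x := fun x hx => by rw [← h.comm' hx hu', mul_inv_cancel_right]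
    constructor
    · intro hx
      rw [h1 x hx.2]
      exact hx
    · intro hx
      have h2 : x ∈ L i := by
        have := mul_mem (mul_mem (inv_mem hu) hx.2) hu
        have e : u⁻¹ * (u * x * u⁻¹) * u = x := by group
        rwa [e] at this
      rwa [h1 x h2] at hx
  have h3 : u ^ 3 ∈ P ⊓ L i := by
    refine pow_three_mem (T := normalizer ((P ⊓ L i : Subgroup S) : Set S) ⊓ L i) ?_ (h.three i) hN
    intro t ht b hb
    exact (mem_normalizer_iff.1 ht.1 b).1 hb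
  exact (mem_of_cube h3 hk).1

/-- Lemma A' -/
theorem lemA' {i : Fin 4} {y : S} (hy : y ∈ L i) (hy' : y ∈ BB P L i) : y ∈ P := by
  obtain ⟨q, hq, u, hu, rfl⟩ := h.split_B hy'
  have h1 : u ∈ L i := by
    have := mul_mem (inv_mem (mem_inf.1 hq).2) hy
    rwa [inv_mul_cancel_left] at this
  exact mul_mem (mem_inf.1 hq).1 (h.lemA h1 hu)

theorem le_BB {i : Fin 4} : Lo L i ≤ BB P L i := le_sup_right

theorem Q_le_BB {i : Fin 4} : P ⊓ L i ≤ BB P L i := le_sup_left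

/-- `J ≤ B_i` -/
theorem J_le {i : Fin 4} {x : S} (hx : x ∈ P) (hx' : x ∈ ⨆ j, L j) : x ∈ BB P L i := by
  have h1 : (⨆ j, P ⊓ L j) ≤ BB P L i := iSup_le fun j => by
    by_cases hj : j = i
    · rw [hj]; exact h.Q_le_BB
    · exact (inf_le_right.trans (h.le_Lo hj)).trans h.le_BB
  exact h1 (h.inter x hx hx')

theorem conj_mem {g : S} {i j : Fin 4} (hg : (L i).map (MulAut.conj g).toMonoidHom = L j) {x : S} (hx : x ∈ L i) :
    g * x * g⁻¹ ∈ L j := by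
  rw [← hg]
  exact conj_mem_map hx

theorem conj_B {g : S} (hgP : g ∈ P) {i j : Fin 4} (hg : (L i).map (MulAut.conj g).toMonoidHom = L j) {x : S}
    (hx : x ∈ BB P L i) : g * x * g⁻¹ ∈ BB P L j := by
  have h1 : BB P L i ≤ (BB P L j).comap (MulAut.conj g).toMonoidHom := by
    refine sup_le ?_ (iSup_le fun k => ?_)
    · intro y hy
      rw [mem_inf] at hy
      refine h.Q_le_BB (mem_inf.2 ⟨?_, h.conj_mem hg hy.2⟩)
      exact mul_mem (mul_mem hgP hy.1) (inv_mem hgP)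
    · intro y hy
      obtain ⟨l, hl⟩ := h.perm g hgP k.1
      have hlj : l ≠ j := by
        rintro rfl
        apply k.2
        apply h.inj
        exact Subgroup.map_injective (MulAut.conj g).injective (hl.trans hg.symm)
      exact h.le_BB (h.le_Lo hlj (h.conj_mem hl hy))
  exact h1 hx

theorem conj_LT {g : S} (hgP : g ∈ P) {x : S} (hx : x ∈ ⨆ j, L j) : g * x * g⁻¹ ∈ ⨆ j, L j := by
  have h1 : (⨆ j, L j) ≤ (⨆ j, L j).comap (MulAut.conj g).toMonoidHom := by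
    refine iSup_le fun k y hy => ?_
    obtain ⟨l, hl⟩ := h.perm g hgP k
    exact le_iSup L l (h.conj_mem hl hy)
  exact h1 hx

/-- F3 -/
theorem mem_P_of_all {w : S} (hw : w ∈ ⨆ j, L j) (hB : ∀ g ∈ P, g⁻¹ * w * g ∈ BB P L 0) : w ∈ P := by
  have hall : ∀ i, w ∈ BB P L i := by
    intro i
    obtain ⟨g, hgP, hg⟩ := h.trans i
    have h1 := h.conj_B hgP hg (hB g hgP)
    have h2 : g * (g⁻¹ * w * g) * g⁻¹ = w := by group
    rwa [h2] at h1
  have e1 : (⨆ j, L j) = L 0 ⊔ (L 1 ⊔ (L 2 ⊔ L 3)) := by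
    apply le_antisymm
    · refine iSup_le fun j => ?_
      fin_cases j
      · exact le_sup_left
      · exact le_sup_left.trans le_sup_right
      · exact (le_sup_left.trans le_sup_right).trans le_sup_right
      · exact (le_sup_right.trans le_sup_right).trans le_sup_right
    · exact sup_le (le_iSup L 0) (sup_le (le_iSup L 1) (sup_le (le_iSup L 2) (le_iSup L 3)))
  have hn : ∀ i j : Fin 4, i ≠ j → ∀ k ∈ L j, ∀ x ∈ L i, k * x * k⁻¹ ∈ L i := by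
    intro i j hij k hk x hx
    rw [← h.comm i j hij x hx k hk, mul_inv_cancel_right]
    exact hx
  have hn' : ∀ (i : Fin 4) (K : Subgroup S), K ≤ Lo L i → ∀ k ∈ K, ∀ x ∈ L i, k * x * k⁻¹ ∈ L i := by
    intro i K hK k hk x hx
    rw [← h.comm' hx (hK hk), mul_inv_cancel_right]
    exact hx
  rw [e1] at hw
  obtain ⟨l0, h0, x1, hx1, rfl⟩ := mem_sup_norm (hn' 0 _ (sup_le (h.le_Lo (by decide))
    (sup_le (h.le_Lo (by decide)) (h.le_Lo (by decide))))) hw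
  obtain ⟨l1, h1, x2, hx2, rfl⟩ := mem_sup_norm (hn' 1 _ (sup_le (h.le_Lo (by decide)) (h.le_Lo (by decide)))) hx1
  obtain ⟨l2, h2, l3, h3, rfl⟩ := mem_sup_norm (hn 2 3 (by decide)) hx2
  have m : ∀ i j : Fin 4, j ≠ i → ∀ x ∈ L j, x ∈ BB P L i := fun i j hij x hx => h.le_BB (h.le_Lo hij hx)
  have p0 : l0 ∈ P := by
    refine h.lemA' h0 ?_
    have := mul_mem (hall 0) (inv_mem (mul_mem (m 0 1 (by decide) _ h1) (mul_mem (m 0 2 (by decide) _ h2)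
      (m 0 3 (by decide) _ h3))))
    rwa [mul_inv_cancel_right] at this
  have p1 : l1 ∈ P := by
    refine h.lemA' h1 ?_
    have := mul_mem (mul_mem (inv_mem (m 1 0 (by decide) _ h0)) (hall 1)) (inv_mem (mul_mem (m 1 2 (by decide) _ h2)
      (m 1 3 (by decide) _ h3)))
    rwa [inv_mul_cancel_left, mul_inv_cancel_right] at this
  have p2 : l2 ∈ P := by
    refine h.lemA' h2 ?_
    have := mul_mem (mul_mem (inv_mem (m 2 1 (by decide) _ h1)) (mul_mem (inv_mem (m 2 0 (by decide) _ h0)) (hall 2)))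
      (inv_mem (m 2 3 (by decide) _ h3))
    rwa [inv_mul_cancel_left, inv_mul_cancel_left, mul_inv_cancel_right] at this
  have p3 : l3 ∈ P := by
    refine h.lemA' h3 ?_
    have := mul_mem (inv_mem (m 3 2 (by decide) _ h2)) (mul_mem (inv_mem (m 3 1 (by decide) _ h1))
      (mul_mem (inv_mem (m 3 0 (by decide) _ h0)) (hall 3)))
    rwa [inv_mul_cancel_left, inv_mul_cancel_left, inv_mul_cancel_left] at this
  exact mul_mem p0 (mul_mem p1 (mul_mem p2 p3))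

/-- `N_0 L'_0` -/
def TT (P : Subgroup S) (L : Fin 4 → Subgroup S) : Subgroup S :=
  (normalizer ((P ⊓ L 0 : Subgroup S) : Set S) ⊓ L 0) ⊔ Lo L 0

theorem mem_TT {x : S} : x ∈ TT P L ↔ ∃ n ∈ normalizer ((P ⊓ L 0 : Subgroup S) : Set S) ⊓ L 0, ∃ l ∈ Lo L 0, n * l = x := by
  constructor
  · intro hx
    refine mem_sup_norm (fun k hk x hx => ?_) hx
    rw [← h.comm' (mem_inf.1 hx).2 hk, mul_inv_cancel_right]
    exact hx
  · rintro ⟨n, hn, l, hl, rfl⟩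
    exact mul_mem ((le_sup_left : _ ≤ TT P L) hn) ((le_sup_right : _ ≤ TT P L) hl)

/-- the character -/
theorem exists_chi : ∃ κ : S → ZMod 3, (∀ x ∈ TT P L, ∀ y ∈ TT P L, κ (x * y) = κ x + κ y) ∧
    ∀ x ∈ TT P L, κ x = 0 ↔ x ∈ BB P L 0 := by
  obtain ⟨κ, hκ1, hκ2⟩ := exists_kappa (B := P ⊓ L 0) (T := normalizer ((P ⊓ L 0 : Subgroup S) : Set S) ⊓ L 0)
    (fun t ht b hb => (mem_normalizer_iff.1 (mem_inf.1 ht).1 b).1 hb) (h.three 0)
  have hex : ∀ x ∈ TT P L, ∃ n, n ∈ normalizer ((P ⊓ L 0 : Subgroup S) : Set S) ⊓ L 0 ∧ n⁻¹ * x ∈ Lo L 0 := by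
    intro x hx
    obtain ⟨n, hn, l, hl, rfl⟩ := h.mem_TT.1 hx
    exact ⟨n, hn, by rw [inv_mul_cancel_left]; exact hl⟩
  classical
  let ξ : S → ZMod 3 := fun x => if hx : x ∈ TT P L then κ (hex x hx).choose else 0
  have hξ : ∀ n ∈ normalizer ((P ⊓ L 0 : Subgroup S) : Set S) ⊓ L 0, ∀ l ∈ Lo L 0, ξ (n * l) = κ n := by
    intro n hn l hl
    have hx : n * l ∈ TT P L := h.mem_TT.2 ⟨n, hn, l, hl, rfl⟩
    have e : ξ (n * l) = κ (hex _ hx).choose := dif_pos hx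
    rw [e]
    obtain ⟨h1, h2⟩ := (hex _ hx).choose_spec
    set n' := (hex _ hx).choose
    have h3 : n'⁻¹ * n ∈ Lo L 0 := by
      have := mul_mem h2 (inv_mem hl)
      have e : n'⁻¹ * (n * l) * l⁻¹ = n'⁻¹ * n := by group
      rwa [e] at this
    have h4 : n'⁻¹ * n ∈ L 0 := mul_mem (inv_mem (mem_inf.1 h1).2) (mem_inf.1 hn).2
    have h5 : n'⁻¹ * n ∈ P ⊓ L 0 := mem_inf.2 ⟨h.lemA h4 h3, h4⟩
    have h6 : n'⁻¹ * n ∈ normalizer ((P ⊓ L 0 : Subgroup S) : Set S) ⊓ L 0 := mul_mem (inv_mem h1) hn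
    have h7 := (hκ2 _ h6).2 h5
    have h8 := hκ1 _ h1 _ h6
    rw [mul_inv_cancel_left, h7, add_zero] at h8
    exact h8.symm
  refine ⟨ξ, ?_, ?_⟩
  · intro x hx y hy
    obtain ⟨n, hn, l, hl, rfl⟩ := h.mem_TT.1 hx
    obtain ⟨n', hn', l', hl', rfl⟩ := h.mem_TT.1 hy
    have e : n * l * (n' * l') = n * n' * (l * l') := by
      rw [mul_assoc, ← mul_assoc l, ← h.comm' (mem_inf.1 hn').2 hl]
      group
    rw [e, hξ _ (mul_mem hn hn') _ (mul_mem hl hl'), hξ _ hn _ hl, hξ _ hn' _ hl', hκ1 _ hn _ hn']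
  · intro x hx
    obtain ⟨n, hn, l, hl, rfl⟩ := h.mem_TT.1 hx
    rw [hξ _ hn _ hl, hκ2 _ hn]
    constructor
    · intro h1
      exact mul_mem (h.Q_le_BB h1) (h.le_BB hl)
    · intro h1
      have h2 : n ∈ BB P L 0 := by
        have := mul_mem h1 (inv_mem (h.le_BB hl))
        rwa [mul_inv_cancel_right] at this
      exact mem_inf.2 ⟨h.lemA' (mem_inf.1 hn).2 h2, (mem_inf.1 hn).2⟩

section overgroup

variable [Finite S] {M : Subgroup S} (hM : M ∈ MM P L)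

include hM

theorem exists_v : ∃ v ∈ M, v ∈ (⨆ j, L j) ∧ v ∉ P := by
  by_contra hcon
  push Not at hcon
  have h1 : M ≤ P := by
    intro m hm
    have h2 := hM.2.2 hm
    rw [sup_comm] at h2
    obtain ⟨l, hl, x, hx, rfl⟩ := mem_sup_norm (fun k hk x hx => h.conj_LT hk hx) h2
    have h3 : l ∈ M := by
      have := mul_mem hm (inv_mem (hM.1 hx))
      rwa [mul_inv_cancel_right] at this
    exact mul_mem (hcon l h3 hl) hx
  have h2 := relIndex_eq_one.2 h1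
  rw [hM.2.1] at h2
  omega

/-- F4b -/
theorem le_of_J {K : Subgroup S} (hK : K ≤ M ⊓ ⨆ j, L j) (hJ : P ⊓ (⨆ j, L j) ≤ K) (hKP : ¬ K ≤ P) :
    M ⊓ (⨆ j, L j) ≤ K := by
  have h1 : (P ⊓ (⨆ j, L j)).relIndex (M ⊓ ⨆ j, L j) ≤ 3 := by
    have e : P ⊓ (⨆ j, L j) = P ⊓ (M ⊓ ⨆ j, L j) := by
      rw [← inf_assoc, inf_eq_left.2 hM.1]
    rw [e, inf_relIndex_right, ← hM.2.1]
    exact relIndex_le_of_le_right inf_le_left (by rw [hM.2.1]; norm_num)
  have h2 := relIndex_mul_relIndex _ _ _ hJ hK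
  have h3 : 2 ≤ (P ⊓ (⨆ j, L j)).relIndex K := by
    have h4 : (P ⊓ (⨆ j, L j)).relIndex K ≠ 0 := index_ne_zero_of_finite
    have h5 : (P ⊓ (⨆ j, L j)).relIndex K ≠ 1 := fun h6 => hKP ((relIndex_eq_one.1 h6).trans inf_le_left)
    omega
  have h4 : K.relIndex (M ⊓ ⨆ j, L j) ≠ 0 := index_ne_zero_of_finite
  have h5 : K.relIndex (M ⊓ ⨆ j, L j) = 1 := by
    by_contra hcon
    have : 2 * 2 ≤ (P ⊓ (⨆ j, L j)).relIndex K * K.relIndex (M ⊓ ⨆ j, L j) := Nat.mul_le_mul h3 (by omega)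
    omega
  exact relIndex_eq_one.1 h5

theorem conj_D {g d : S} (hg : g ∈ P) (hd : d ∈ M ⊓ ⨆ j, L j) : g * d * g⁻¹ ∈ M ⊓ ⨆ j, L j := by
  rw [mem_inf] at hd ⊢
  exact ⟨mul_mem (mul_mem (hM.1 hg) hd.1) (inv_mem (hM.1 hg)), h.conj_LT hg hd.2⟩

theorem conj_D' {g d : S} (hg : g ∈ P) (hd : d ∈ M ⊓ ⨆ j, L j) : g⁻¹ * d * g ∈ M ⊓ ⨆ j, L j := by
  have := h.conj_D hM (inv_mem hg) hd
  rwa [inv_inv] at this

/-- F5 -/
theorem inter_P {i : Fin 4} {y : S} (hy : y ∈ M ⊓ ⨆ j, L j) (hyi : y ∈ L i) : y ∈ P := by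
  by_contra hyP
  obtain ⟨j, hj⟩ : ∃ j : Fin 4, j ≠ i := by
    by_cases hi : i = 0
    · exact ⟨1, by rw [hi]; decide⟩
    · exact ⟨0, Ne.symm hi⟩
  -- an element of `P` moving `L i` to `L j`
  obtain ⟨g, hg, hgi⟩ := h.trans i
  obtain ⟨g', hg', hgj⟩ := h.trans j
  have h1 : g⁻¹ * y * g ∈ L 0 := mem_map_conj.1 (hgi ▸ hyi)
  have h2 : g' * (g⁻¹ * y * g) * g'⁻¹ ∈ L j := h.conj_mem hgj h1
  have h3 : g' * (g⁻¹ * y * g) * g'⁻¹ ∈ M ⊓ ⨆ j, L j := h.conj_D hM hg' (h.conj_D' hM hg hy)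
  have h4 : g' * (g⁻¹ * y * g) * g'⁻¹ ∉ P := by
    intro h5
    apply hyP
    have h6 := mul_mem (mul_mem (mul_mem hg (inv_mem hg')) h5) (mul_mem hg' (inv_mem hg))
    have e : g * g'⁻¹ * (g' * (g⁻¹ * y * g) * g'⁻¹) * (g' * g⁻¹) = y := by group
    rwa [e] at h6
  have h5 : M ⊓ (⨆ j, L j) ≤ (P ⊓ ⨆ j, L j) ⊔ ((M ⊓ ⨆ j, L j) ⊓ L j) := by
    refine h.le_of_J hM ?_ le_sup_left ?_
    · exact sup_le (inf_le_inf_right _ hM.1) inf_le_left
    · intro h6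
      exact h4 (h6 ((le_sup_right : _ ≤ (P ⊓ ⨆ j, L j) ⊔ ((M ⊓ ⨆ j, L j) ⊓ L j)) (mem_inf.2 ⟨h3, h2⟩)))
  have h6 : (P ⊓ ⨆ j, L j) ⊔ ((M ⊓ ⨆ j, L j) ⊓ L j) ≤ BB P L i := by
    refine sup_le ?_ ?_
    · intro x hx
      exact h.J_le (mem_inf.1 hx).1 (mem_inf.1 hx).2
    · exact inf_le_right.trans ((h.le_Lo hj).trans h.le_BB)
  exact hyP (h.lemA' hyi (h6 (h5 hy)))

/-- F6 -/
theorem D_le_TT {d : S} (hd : d ∈ M ⊓ ⨆ j, L j) : d ∈ TT P L := by
  obtain ⟨n, hn, l, hl, hnl⟩ := h.split (i := 0) (mem_inf.1 hd).2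
  refine h.mem_TT.2 ⟨n, mem_inf.2 ⟨?_, hn⟩, l, hl, hnl⟩
  have hle : P ⊓ L 0 ≤ M ⊓ ⨆ j, L j := inf_le_inf hM.1 (le_iSup L 0)
  have h1 : ∀ c ∈ M ⊓ ⨆ j, L j, ∀ x ∈ P ⊓ L 0, c * x * c⁻¹ ∈ P ⊓ L 0 := by
    intro c hc x hx
    have h2 : c * x * c⁻¹ ∈ L 0 := h.norm_L (mem_inf.1 hc).2 (mem_inf.1 hx).2
    have h3 : c * x * c⁻¹ ∈ M ⊓ ⨆ j, L j := mul_mem (mul_mem hc (hle hx)) (inv_mem hc)
    exact mem_inf.2 ⟨h.inter_P hM h3 h2, h2⟩
  have h2 : ∀ x ∈ L 0, n * x * n⁻¹ = d * x * d⁻¹ := by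
    intro x hx
    rw [← hnl, mul_assoc n l x, ← h.comm' hx hl]
    group
  rw [mem_normalizer_iff]
  intro x
  constructor
  · intro hx
    rw [h2 x hx.2]
    exact h1 d hd x hx
  · intro hx
    have h4 := h1 _ (inv_mem hd) _ hx
    rw [inv_inv] at h4
    have hx0 : x ∈ L 0 := by
      have := mul_mem (mul_mem (inv_mem hn) hx.2) hn
      have e : n⁻¹ * (n * x * n⁻¹) * n = x := by group
      rwa [e] at this
    have e : d⁻¹ * (n * x * n⁻¹) * d = x := by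
      rw [h2 x hx0]
      group
    rwa [e] at h4

/-- F7 -/
theorem mem_P_of_B {d : S} (hd : d ∈ M ⊓ ⨆ j, L j) (hB : d ∈ BB P L 0) : d ∈ P := by
  by_contra hdP
  have h1 : M ⊓ (⨆ j, L j) ≤ (M ⊓ ⨆ j, L j) ⊓ BB P L 0 := by
    refine h.le_of_J hM inf_le_left ?_ ?_
    · intro x hx
      rw [mem_inf] at hx
      exact mem_inf.2 ⟨mem_inf.2 ⟨hM.1 hx.1, hx.2⟩, h.J_le hx.1 hx.2⟩
    · intro h2
      exact hdP (h2 (mem_inf.2 ⟨hd, hB⟩))
  apply hdP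
  refine h.mem_P_of_all (mem_inf.1 hd).2 fun g hg => ?_
  exact (mem_inf.1 (h1 (h.conj_D' hM hg hd))).2

end overgroup

/-- two overgroups with a common element of order three modulo `J` -/
theorem eq_of [Finite S] {M M' : Subgroup S} (hM : M ∈ MM P L) (hM' : M' ∈ MM P L) {v v' : S} (hv : v ∈ M)
    (hvP : v ∉ P) (hv' : v' ∈ M') (hvv : v * v'⁻¹ ∈ P) : M ≤ M' := by
  have h1 : v ∈ M' := by
    have := mul_mem (hM'.1 hvv) hv'
    rwa [inv_mul_cancel_right] at this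
  have h2 := relIndex_mul_relIndex P (M ⊓ M') M (le_inf hM.1 hM'.1) inf_le_left
  rw [hM.2.1] at h2
  have h3 : P.relIndex (M ⊓ M') ≠ 1 := fun h4 => hvP ((relIndex_eq_one.1 h4) (mem_inf.2 ⟨hv, h1⟩))
  have h4 : P.relIndex (M ⊓ M') ∣ 3 := ⟨_, h2.symm⟩
  have h5 : P.relIndex (M ⊓ M') = 3 := ((Nat.dvd_prime Nat.prime_three).1 h4).resolve_left h3
  rw [h5] at h2
  have h6 : (M ⊓ M').relIndex M = 1 := by omega
  exact (relIndex_eq_one.1 h6).trans inf_le_right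

theorem stab_index [Finite S] : (P ⊓ normalizer ((L 0 : Subgroup S) : Set S)).relIndex P ≤ 4 := by
  choose g hgP hg using h.trans
  have hsurj : Function.Surjective (fun i : Fin 4 =>
      (QuotientGroup.mk (⟨g i, hgP i⟩ : P) : P ⧸ (P ⊓ normalizer ((L 0 : Subgroup S) : Set S)).subgroupOf P)) := by
    intro x
    obtain ⟨⟨x, hx⟩, rfl⟩ := QuotientGroup.mk_surjective x
    obtain ⟨j, hj⟩ := h.perm x hx 0
    refine ⟨j, QuotientGroup.eq.2 ?_⟩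
    rw [mem_subgroupOf, mem_inf]
    change (g j)⁻¹ * x ∈ P ∧ (g j)⁻¹ * x ∈ normalizer ((L 0 : Subgroup S) : Set S)
    refine ⟨mul_mem (inv_mem (hgP j)) hx, ?_⟩
    have e : ∀ y, (g j)⁻¹ * x * y * ((g j)⁻¹ * x)⁻¹ = (g j)⁻¹ * (x * y * x⁻¹) * g j := fun y => by group
    rw [mem_normalizer_iff]
    intro y
    change y ∈ L 0 ↔ (g j)⁻¹ * x * y * ((g j)⁻¹ * x)⁻¹ ∈ L 0
    rw [e, ← mem_map_conj, hg j, ← hj, mem_map_conj]
    have e2 : x⁻¹ * (x * y * x⁻¹) * x = y := by group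
    rw [e2]
  have h1 := Nat.card_le_card_of_surjective _ hsurj
  rw [Nat.card_eq_fintype_card (α := Fin 4), Fintype.card_fin] at h1
  exact h1

/-- **box D2** -/
theorem main [Finite S] : (MM P L).encard ≤ 4 := by
  obtain ⟨κ, hκ1, hκ2⟩ := h.exists_chi
  obtain ⟨a, ha, b, hb, hab⟩ := exists_two inf_le_left h.stab_index
  have hκ0 : κ 1 = 0 := (hκ2 1 (one_mem _)).2 (one_mem _)
  have hκi : ∀ x ∈ TT P L, κ x⁻¹ = - κ x := by
    intro x hx
    have h1 := hκ1 x hx _ (inv_mem hx)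
    rw [mul_inv_cancel, hκ0] at h1
    exact (neg_eq_of_add_eq_zero_right h1.symm).symm
  -- the difference
  have hdiff : ∀ x ∈ TT P L, ∀ y ∈ TT P L, κ x = κ y ↔ x * y⁻¹ ∈ BB P L 0 := by
    intro x hx y hy
    rw [← hκ2 _ (mul_mem hx (inv_mem hy)), hκ1 x hx _ (inv_mem hy), hκi y hy, ← sub_eq_add_neg, sub_eq_zero]
  have hnot : ∀ x, x ∈ (⨆ j, L j) → κ x ≠ 0 → x ∈ TT P L → x ∉ P := fun x hx h1 h2 h3 =>
    h1 ((hκ2 x h2).2 (h.J_le h3 hx))
  -- the element `v`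
  have hv : ∀ M ∈ MM P L, ∃ v, v ∈ M ⊓ (⨆ j, L j) ∧ κ v = 1 := by
    intro M hM
    obtain ⟨v, hv1, hv2, hv3⟩ := h.exists_v hM
    have hvD : v ∈ M ⊓ ⨆ j, L j := mem_inf.2 ⟨hv1, hv2⟩
    have hvT := h.D_le_TT hM hvD
    have h1 : κ v ≠ 0 := fun h2 => hv3 (h.mem_P_of_B hM hvD ((hκ2 v hvT).1 h2))
    have h2 : ∀ x : ZMod 3, x ≠ 0 → x = 1 ∨ -x = 1 := by decide
    rcases h2 _ h1 with h3 | h3
    · exact ⟨v, hvD, h3⟩
    · exact ⟨v⁻¹, inv_mem hvD, by rw [hκi v hvT, h3]⟩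
  have hne : ∀ M ∈ MM P L, ∀ v, v ∈ M ⊓ (⨆ j, L j) → κ v = 1 → ∀ g ∈ P, κ (g⁻¹ * v * g) ≠ 0 := by
    intro M hM v hv hκv g hg h1
    have h2 := h.conj_D' hM hg hv
    have h3 := h.mem_P_of_B hM h2 ((hκ2 _ (h.D_le_TT hM h2)).1 h1)
    have h4 : v ∈ P := by
      have := mul_mem (mul_mem hg h3) (inv_mem hg)
      have e : g * (g⁻¹ * v * g) * g⁻¹ = v := by group
      rwa [e] at this
    exact hnot v (mem_inf.1 hv).2 (by rw [hκv]; decide) (h.D_le_TT hM hv) h4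
  have hM2 : ∀ M ∈ MM P L, ∀ d ∈ M ⊓ (⨆ j, L j), ∀ d' ∈ M ⊓ (⨆ j, L j), κ d = κ d' → ∀ g ∈ P,
      κ (g⁻¹ * d * g) = κ (g⁻¹ * d' * g) := by
    intro M hM d hd d' hd' hdd g hg
    have h1 := (hdiff d (h.D_le_TT hM hd) d' (h.D_le_TT hM hd')).1 hdd
    have h2 : d * d'⁻¹ ∈ M ⊓ ⨆ j, L j := mul_mem hd (inv_mem hd')
    have h3 := h.mem_P_of_B hM h2 h1
    have h4 : g⁻¹ * (d * d'⁻¹) * g ∈ BB P L 0 :=
      h.J_le (mul_mem (mul_mem (inv_mem hg) h3) hg) (mem_inf.1 (h.conj_D' hM hg h2)).2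
    rw [hdiff _ (h.D_le_TT hM (h.conj_D' hM hg hd)) _ (h.D_le_TT hM (h.conj_D' hM hg hd'))]
    have e : g⁻¹ * d * g * (g⁻¹ * d' * g)⁻¹ = g⁻¹ * (d * d'⁻¹) * g := by group
    rw [e]
    exact h4
  have hM3 : ∀ M ∈ MM P L, ∀ v, v ∈ M ⊓ (⨆ j, L j) → κ v = 1 → ∀ g ∈ P, ∀ k ∈ P,
      κ ((g * k)⁻¹ * v * (g * k)) = κ (g⁻¹ * v * g) * κ (k⁻¹ * v * k) := by
    intro M hM v hv hκv g hg k hk
    have e : (g * k)⁻¹ * v * (g * k) = k⁻¹ * (g⁻¹ * v * g) * k := by group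
    have h2 : ∀ x : ZMod 3, x ≠ 0 → x = 1 ∨ x = -1 := by decide
    rw [e]
    rcases h2 _ (hne M hM v hv hκv g hg) with h3 | h3
    · rw [hM2 M hM _ (h.conj_D' hM hg hv) v hv (by rw [h3, hκv]) k hk, h3, one_mul]
    · have h4 : κ v⁻¹ = -1 := by rw [hκi v (h.D_le_TT hM hv), hκv]
      rw [hM2 M hM _ (h.conj_D' hM hg hv) v⁻¹ (inv_mem hv) (by rw [h3, h4]) k hk, h3]
      have e2 : k⁻¹ * v⁻¹ * k = (k⁻¹ * v * k)⁻¹ := by group
      rw [e2, hκi _ (h.D_le_TT hM (h.conj_D' hM hk hv)), neg_one_mul]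
  classical
  let f : Subgroup S → ZMod 3 × ZMod 3 := fun M => if hM : M ∈ MM P L then
    (κ (a⁻¹ * (hv M hM).choose * a), κ (b⁻¹ * (hv M hM).choose * b)) else 0
  have hmaps : Set.MapsTo f (MM P L) (({1, 2} ×ˢ {1, 2} : Finset (ZMod 3 × ZMod 3)) : Set (ZMod 3 × ZMod 3)) := by
    intro M hM
    have e : f M = (κ (a⁻¹ * (hv M hM).choose * a), κ (b⁻¹ * (hv M hM).choose * b)) := dif_pos hM
    rw [e]
    obtain ⟨h1, h2⟩ := (hv M hM).choose_spec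
    have h3 := hne M hM _ h1 h2 a ha
    have h4 := hne M hM _ h1 h2 b hb
    have h5 : ∀ x : ZMod 3, x ≠ 0 → x = 1 ∨ x = 2 := by decide
    rw [Finset.mem_coe, Finset.mem_product]
    constructor
    · rw [Finset.mem_insert, Finset.mem_singleton]
      exact h5 _ h3
    · rw [Finset.mem_insert, Finset.mem_singleton]
      exact h5 _ h4
  have hinj : Set.InjOn f (MM P L) := by
    intro M hM M' hM' hf
    have e : f M = (κ (a⁻¹ * (hv M hM).choose * a), κ (b⁻¹ * (hv M hM).choose * b)) := dif_pos hM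
    have e' : f M' = (κ (a⁻¹ * (hv M' hM').choose * a), κ (b⁻¹ * (hv M' hM').choose * b)) := dif_pos hM'
    rw [e, e', Prod.mk.injEq] at hf
    obtain ⟨h1, h2⟩ := (hv M hM).choose_spec
    obtain ⟨h1', h2'⟩ := (hv M' hM').choose_spec
    set v := (hv M hM).choose
    set v' := (hv M' hM').choose
    have hvT := h.D_le_TT hM h1
    have hvT' := h.D_le_TT hM' h1'
    let K : Subgroup S :=
      { carrier := {g | g ∈ P ∧ κ (g⁻¹ * v * g) = κ (g⁻¹ * v' * g)}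
        one_mem' := ⟨one_mem _, by rw [inv_one, one_mul, one_mul, mul_one, mul_one, h2, h2']⟩
        mul_mem' := by
          rintro x y ⟨hx, hx'⟩ ⟨hy, hy'⟩
          refine ⟨mul_mem hx hy, ?_⟩
          rw [hM3 M hM v h1 h2 x hx y hy, hM3 M' hM' v' h1' h2' x hx y hy, hx', hy']
        inv_mem' := by
          rintro x ⟨hx, hx'⟩
          refine ⟨inv_mem hx, ?_⟩
          have h3 := hM3 M hM v h1 h2 x⁻¹ (inv_mem hx) x hx
          have h4 := hM3 M' hM' v' h1' h2' x⁻¹ (inv_mem hx) x hx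
          rw [inv_mul_cancel, inv_one, one_mul, mul_one] at h3 h4
          rw [h2] at h3
          rw [h2', ← hx'] at h4
          have h5 : ∀ x y z : ZMod 3, 1 = x * z → 1 = y * z → x = y := by decide
          exact h5 _ _ _ h3 h4 }
    have hPK : P ≤ K := by
      refine hab K ?_ ⟨ha, hf.1⟩ ⟨hb, hf.2⟩ fun x hx => hx.1
      intro g hg
      rw [mem_inf] at hg
      refine ⟨hg.1, ?_⟩
      rw [hdiff _ (h.D_le_TT hM (h.conj_D' hM hg.1 h1)) _ (h.D_le_TT hM' (h.conj_D' hM' hg.1 h1'))]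
      have e : g⁻¹ * v * g * (g⁻¹ * v' * g)⁻¹ = g⁻¹ * (v * v'⁻¹) * g⁻¹⁻¹ := by group
      rw [e]
      refine h.conj_B (inv_mem hg.1) (i := 0) ?_ ((hdiff v hvT v' hvT').1 (by rw [h2, h2']))
      ext x
      rw [mem_map_conj, inv_inv]
      exact ((mem_normalizer_iff.1 hg.2) x).symm
    have hvv : v * v'⁻¹ ∈ P := by
      refine h.mem_P_of_all (mul_mem (mem_inf.1 h1).2 (inv_mem (mem_inf.1 h1').2)) fun g hg => ?_
      have h3 := (hPK hg).2
      rw [hdiff _ (h.D_le_TT hM (h.conj_D' hM hg h1)) _ (h.D_le_TT hM' (h.conj_D' hM' hg h1'))] at h3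
      have e : g⁻¹ * v * g * (g⁻¹ * v' * g)⁻¹ = g⁻¹ * (v * v'⁻¹) * g := by group
      rwa [e] at h3
    have hvP := hnot v (mem_inf.1 h1).2 (by rw [h2]; decide) hvT
    have hvP' := hnot v' (mem_inf.1 h1').2 (by rw [h2']; decide) hvT'
    refine le_antisymm (h.eq_of hM hM' (mem_inf.1 h1).1 hvP (mem_inf.1 h1').1 hvv) ?_
    refine h.eq_of hM' hM (mem_inf.1 h1').1 hvP' (mem_inf.1 h1).1 ?_
    have := inv_mem hvv
    rwa [mul_inv_rev, inv_inv] at this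
  refine (Set.encard_le_encard_of_injOn hmaps hinj).trans ?_
  rw [Set.encard_coe_eq_coe_finsetCard]
  decide

end HH

end Cfsg.Agent.H286.RV
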